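import Cfsg.Agent.H494.PSURow

/-!
# S4816, `U₆(2)`, `p = 3`: the centralizer of `diag(w, w², 1, 1, 1, 1)` in `SU₆(2)` (helper242)
-/

set_option autoImplicit false
set_option linter.unusedSectionVars false

namespace Cfsg.Agent.H242.RIM

open Cfsg Matrix Cfsg.Agent.LieClassical.SUBasic Cfsg.Agent.H494.PSURow Cfsg.Agent.H494.SLHom

variable {F : Type*} [Field F] [Fintype F]

/-- the entries of an element of `SU` -/
abbrev mt {n q : ℕ} (A : SU n F q) : Matrix (Fin n) (Fin n) F := A.1.1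

theorem mt_mul {n q : ℕ} (A B : SU n F q) : mt (A * B) = mt A * mt B := rfl

theorem ext_mt {n q : ℕ} {A B : SU n F q} (h : ∀ i j, mt A i j = mt B i j) : A = B :=
  Subtype.ext (Subtype.ext (Matrix.ext h))

theorem mulVec_single' {n : ℕ} (M : Matrix (Fin n) (Fin n) F) (j : Fin n) :
    M *ᵥ (Pi.single j 1) = fun i => M i j := by
  funext i
  simp

/-- the columns are orthonormal -/
theorem cols {n q : ℕ} (hq : 0 < q) (A : SU n F q) (j k : Fin n) :
    ∑ i, mt A i j * (mt A i k) ^ q = if j = k then 1 else 0 := by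
  have h := (LieClassical.SUBasic.mem_SU_iff A.1).1 A.2 (Pi.single j 1) (Pi.single k 1)
  rw [mulVec_single', mulVec_single', hermForm_apply, hermForm_apply] at h
  rw [show (∑ i, mt A i j * (mt A i k) ^ q) = ∑ i, A.1.1 i j * (A.1.1 i k) ^ q from rfl, h]
  rw [Finset.sum_eq_single j]
  · by_cases hjk : j = k
    · subst hjk; simp
    · rw [if_neg hjk, Pi.single_eq_of_ne hjk, zero_pow hq.ne', mul_zero]
  · intro i _ hi
    rw [Pi.single_eq_of_ne hi, zero_mul]
  · intro h1; exact absurd (Finset.mem_univ j) h1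

/-- the converse -/
theorem mem_of_cols {n q : ℕ} (hF : Fintype.card F = q ^ 2) (A : SpecialLinearGroup (Fin n) F)
    (h : ∀ j k, ∑ i, A.1 i j * (A.1 i k) ^ q = if j = k then 1 else 0) : A ∈ SU n F q := by
  rw [LieClassical.SUBasic.mem_SU_iff]
  intro u v
  rw [hermForm_apply, hermForm_apply]
  have h1 : ∀ i, ((A : Matrix (Fin n) (Fin n) F) *ᵥ u) i * (((A : Matrix (Fin n) (Fin n) F) *ᵥ v) i) ^ q =
      ∑ j, ∑ k, (u j * v k ^ q) * (A.1 i j * (A.1 i k) ^ q) := by
    intro i
    simp only [Matrix.mulVec, dotProduct]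
    rw [LieClassical.HermBasic.sum_pow_q hF, Finset.sum_mul_sum]
    refine Finset.sum_congr rfl fun j _ => Finset.sum_congr rfl fun k _ => ?_
    rw [mul_pow]; ring
  simp_rw [h1]
  rw [Finset.sum_comm]
  refine Finset.sum_congr rfl fun j _ => ?_
  rw [Finset.sum_comm]
  simp_rw [← Finset.mul_sum, h]
  simp

section six

variable (hF : Fintype.card F = 2 ^ 2)

include hF in
theorem pow_three {c : F} (hc : c ≠ 0) : c ^ 3 = 1 := by
  have h1 := FiniteField.pow_card_sub_one_eq_one c hc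
  rw [hF] at h1
  simpa using h1

/-- `diag(w, w², 1, 1, 1, 1)` -/
def xv (w : F) : Fin 6 → F := ![w, w ^ 2, 1, 1, 1, 1]

/-- the element `x` -/
def xs (w : F) (hw : w ^ 3 = 1) : SU 6 F 2 :=
  suDiag 2 (xv w) (by simp [xv, Fin.prod_univ_six]; rw [← pow_succ']; exact hw)
    (by
      intro i
      fin_cases i <;> simp [xv]
      · exact hw
      · rw [← pow_mul, pow_mul', hw, one_pow])

theorem mt_xs (w : F) (hw : w ^ 3 = 1) : mt (xs w hw) = diagonal (xv w) := rfl

/-- `SU₄ → SU₆` -/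
def io : SU 4 F 2 →* SU 6 F 2 := (blk 2 4 F 2).comp (MonoidHom.inr (SU 2 F 2) (SU 4 F 2))

theorem mt_io (g : SU 4 F 2) : mt (io g) = !![1, 0, 0, 0, 0, 0; 0, 1, 0, 0, 0, 0;
    0, 0, mt g 0 0, mt g 0 1, mt g 0 2, mt g 0 3; 0, 0, mt g 1 0, mt g 1 1, mt g 1 2, mt g 1 3;
    0, 0, mt g 2 0, mt g 2 1, mt g 2 2, mt g 2 3; 0, 0, mt g 3 0, mt g 3 1, mt g 3 2, mt g 3 3] := by
  ext i j
  fin_cases i <;> fin_cases j <;> rfl

/-- a block matrix with unit upper block -/
theorem exists_io {B : SU 6 F 2} (hF : Fintype.card F = 2 ^ 2) (h0 : mt B 0 0 = 1) (h1 : mt B 1 1 = 1)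
    (hz : ∀ i j : Fin 6, i ≠ j → (i < 2 ∨ j < 2) → mt B i j = 0) : ∃ g : SU 4 F 2, B = io g := by
  set M : Matrix (Fin 4) (Fin 4) F := fun i j => mt B (Fin.natAdd 2 i) (Fin.natAdd 2 j) with hM
  have hB : mt B = reindex finSumFinEquiv finSumFinEquiv (fromBlocks (1 : Matrix (Fin 2) (Fin 2) F) 0 0 M) := by
    ext i j
    fin_cases i <;> fin_cases j <;> first | exact h0 | exact h1 | exact hz _ _ (by decide) (by decide) | rfl
  have hdet : M.det = 1 := by
    have h2 : (mt B).det = 1 := B.1.2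
    rw [hB, det_reindex_self, det_fromBlocks_zero₂₁, det_one, one_mul] at h2
    exact h2
  have hmem : (⟨M, hdet⟩ : SpecialLinearGroup (Fin 4) F) ∈ SU 4 F 2 := by
    refine mem_of_cols hF _ fun j k => ?_
    have h2 := cols (by norm_num) B (Fin.natAdd 2 j) (Fin.natAdd 2 k)
    rw [Fin.sum_univ_six, hz 0 (Fin.natAdd 2 j) (by fin_cases j <;> decide) (Or.inl (by decide)),
      hz 1 (Fin.natAdd 2 j) (by fin_cases j <;> decide) (Or.inl (by decide))] at h2
    rw [zero_mul, zero_mul, zero_add, zero_add] at h2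
    rw [Fin.sum_univ_four]
    have h3 : (Fin.natAdd 2 j = Fin.natAdd 2 k) ↔ j = k := by
      refine ⟨fun h => ?_, fun h => by rw [h]⟩
      have h4 := congrArg Fin.val h
      rw [Fin.val_natAdd, Fin.val_natAdd] at h4
      exact Fin.ext (by omega)
    simp only [h3] at h2
    exact h2
  refine ⟨⟨⟨M, hdet⟩, hmem⟩, ?_⟩
  refine Subtype.ext (Subtype.ext ?_)
  exact hB

theorem xs_mul {t u : F} (ht : t ^ 3 = 1) (hu : u ^ 3 = 1) :
    xs t ht * xs u hu = xs (t * u) (by rw [mul_pow, ht, hu, one_mul]) := by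
  refine Subtype.ext (Subtype.ext ?_)
  show diagonal (xv t) * diagonal (xv u) = diagonal (xv (t * u))
  rw [diagonal_mul_diagonal]
  congr 1
  funext i
  fin_cases i <;> simp [xv, mul_pow]

theorem xs_pow {t : F} (ht : t ^ 3 = 1) (k : ℕ) : (xs t ht) ^ k = xs (t ^ k) (by rw [← pow_mul, pow_mul', ht, one_pow]) := by
  induction k with
  | zero =>
    rw [pow_zero]
    refine Subtype.ext (Subtype.ext ?_)
    show (1 : Matrix (Fin 6) (Fin 6) F) = diagonal (xv (t ^ 0))
    rw [← diagonal_one]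
    congr 1
    funext i
    fin_cases i <;> simp [xv]
  | succ k ih =>
    rw [pow_succ, ih, xs_mul]
    congr 1
    exact (pow_succ t k).symm

theorem one_add {w : F} (hw : w ^ 3 = 1) (hw1 : w ≠ 1) : 1 + w + w ^ 2 = 0 := by
  have h1 : (w - 1) * (1 + w + w ^ 2) = 0 := by linear_combination hw
  exact (mul_eq_zero.1 h1).resolve_left (sub_ne_zero.2 hw1)

theorem cube_roots {w : F} (hw : w ^ 3 = 1) (hw1 : w ≠ 1) {c : F} (hc : c ^ 3 = 1) : c = 1 ∨ c = w ∨ c = w ^ 2 := by
  have h1 := one_add hw hw1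
  have h2 : (c - 1) * ((c - w) * (c - w ^ 2)) = 0 := by
    linear_combination hc - hw - (c ^ 2 - w * c) * h1
  rcases mul_eq_zero.1 h2 with h | h
  · exact Or.inl (sub_eq_zero.1 h)
  · rcases mul_eq_zero.1 h with h | h
    · exact Or.inr (Or.inl (sub_eq_zero.1 h))
    · exact Or.inr (Or.inr (sub_eq_zero.1 h))

theorem w_ne {w : F} (hw : w ^ 3 = 1) (hw1 : w ≠ 1) : w ≠ 0 ∧ w ^ 2 ≠ 1 ∧ w ≠ w ^ 2 := by
  have h0 : w ≠ 0 := by
    rintro rfl
    simp at hw
  refine ⟨h0, fun h => hw1 ?_, fun h => hw1 ?_⟩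
  · rw [pow_succ, h, one_mul] at hw
    exact hw
  · have h1 : w * (w - 1) = 0 := by linear_combination -h
    exact sub_eq_zero.1 ((mul_eq_zero.1 h1).resolve_left h0)

/-- an element commuting with `x` modulo scalars is `z x^k ι(g)` -/
theorem cent_dec (hF : Fintype.card F = 2 ^ 2) {w : F} (hw : w ^ 3 = 1) (hw1 : w ≠ 1) {A : SU 6 F 2} {c : F}
    (hc3 : c ^ 3 = 1) (hc : ∀ i j, mt A i j * xv w j = c * (xv w i * mt A i j)) :
    ∃ z ∈ Subgroup.center (SU 6 F 2), ∃ (k : ℕ) (g : SU 4 F 2), A = z * (xs w hw) ^ k * io g := by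
  obtain ⟨w0, w2, w12⟩ := w_ne hw hw1
  have hc1 : c = 1 := by
    by_contra hne
    obtain ⟨i0, hi0⟩ : ∃ i0 : Fin 6, ∀ i, i ≠ i0 → c * xv w i ≠ 1 := by
      rcases cube_roots hw hw1 hc3 with h | h | h
      · exact absurd h hne
      · refine ⟨1, fun i hi => ?_⟩
        rw [h]
        have h7 : ∀ i : Fin 6, i ≠ 1 → xv w i = w ∨ xv w i = 1 := by
          intro i hi
          fin_cases i <;> first | exact absurd rfl hi | exact Or.inl rfl | exact Or.inr rfl
        rcases h7 i hi with h8 | h8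
        · rw [h8, ← pow_two]; exact w2
        · rw [h8, mul_one]; exact hw1
      · refine ⟨0, fun i hi => ?_⟩
        rw [h]
        have h7 : ∀ i : Fin 6, i ≠ 0 → xv w i = w ^ 2 ∨ xv w i = 1 := by
          intro i hi
          fin_cases i <;> first | exact absurd rfl hi | exact Or.inl rfl | exact Or.inr rfl
        rcases h7 i hi with h8 | h8
        · rw [h8]
          intro h4
          apply hw1
          linear_combination h4 - w * hw
        · rw [h8, mul_one]; exact w2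
    have hz : ∀ i j, i ≠ i0 → 2 ≤ j → mt A i j = 0 := by
      intro i j hi hj
      have h1 := hc i j
      have h2 : xv w j = 1 := by
        fin_cases j <;> first | rfl | exact absurd hj (by decide)
      rw [h2] at h1
      have h3 : mt A i j * (1 - c * xv w i) = 0 := by linear_combination h1
      exact (mul_eq_zero.1 h3).resolve_right (sub_ne_zero.2 (hi0 i hi).symm)
    have key : ∀ j k : Fin 6, 2 ≤ j → 2 ≤ k → mt A i0 j * (mt A i0 k) ^ 2 = if j = k then 1 else 0 := by
      intro j k hj _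
      have h1 := cols (by norm_num) A j k
      rw [Finset.sum_eq_single i0] at h1
      · exact h1
      · intro i _ hi
        rw [hz i j hi hj, zero_mul]
      · intro h; exact absurd (Finset.mem_univ _) h
    have h1 := key 2 2 (by decide) (by decide)
    have h2 := key 3 3 (by decide) (by decide)
    have h3 := key 2 3 (by decide) (by decide)
    rw [if_pos rfl] at h1 h2
    rw [if_neg (by decide)] at h3
    rcases mul_eq_zero.1 h3 with h4 | h4
    · rw [h4, zero_mul] at h1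
      exact zero_ne_one h1
    · rw [h4, mul_zero] at h2
      exact zero_ne_one h2
  subst hc1
  have hd : ∀ i j : Fin 6, i ≠ j → (i < 2 ∨ j < 2) → xv w j ≠ xv w i := by
    intro i j hij hlt
    fin_cases i <;> fin_cases j <;>
      first
      | exact absurd rfl hij
      | exact absurd hlt (by decide)
      | exact w12
      | exact Ne.symm w12
      | exact hw1
      | exact Ne.symm hw1
      | exact w2
      | exact Ne.symm w2
  have hz : ∀ i j : Fin 6, i ≠ j → (i < 2 ∨ j < 2) → mt A i j = 0 := by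
    intro i j hij hlt
    have h1 := hc i j
    have h3 : mt A i j * (xv w j - xv w i) = 0 := by linear_combination h1
    exact (mul_eq_zero.1 h3).resolve_right (sub_ne_zero.2 (hd i j hij hlt))
  have hn : ∀ j : Fin 6, j < 2 → (mt A j j) ^ 3 = 1 := by
    intro j hj
    have h1 := cols (by norm_num) A j j
    rw [if_pos rfl, Finset.sum_eq_single j] at h1
    · rw [← h1]; ring
    · intro i _ hi
      rw [hz i j hi (Or.inr hj), zero_mul]
    · intro h; exact absurd (Finset.mem_univ _) h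
  set a := mt A 0 0 with ha
  set b := mt A 1 1 with hb
  have ha3 : a ^ 3 = 1 := hn 0 (by decide)
  have hb3 : b ^ 3 = 1 := hn 1 (by decide)
  set s := a * b with hs
  have hs3 : s ^ 3 = 1 := by rw [hs, mul_pow, ha3, hb3, one_mul]
  have hs6 : s ^ 6 = 1 := by
    rw [show 6 = 3 * 2 from rfl, pow_mul, hs3, one_pow]
  set t := s * b with ht
  have ht3 : t ^ 3 = 1 := by rw [ht, mul_pow, hs3, hb3, one_mul]
  have hmt : ∀ i j, mt (xs t ht3 * suScalar 2 s hs6 hs3 * A) i j = xv t i * (s * mt A i j) := by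
    intro i j
    rw [mul_assoc, mt_mul, mt_mul]
    show ((diagonal (xv t) * (diagonal (fun _ => s) * mt A) : Matrix (Fin 6) (Fin 6) F)) i j = _
    rw [diagonal_mul, diagonal_mul]
  obtain ⟨g, hg⟩ := exists_io (B := xs t ht3 * suScalar 2 s hs6 hs3 * A) hF
    (by
      rw [hmt, ← ha]
      show t * (s * a) = 1
      rw [ht, hs]
      linear_combination ha3 + a ^ 3 * hb3)
    (by
      rw [hmt, ← hb]
      show t ^ 2 * (s * b) = 1
      rw [← ht, ← pow_succ, ht3])
    (by
      intro i j hij hlt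
      rw [hmt, hz i j hij hlt, mul_zero, mul_zero])
  obtain ⟨k, hk⟩ : ∃ k : ℕ, t⁻¹ = w ^ k := by
    have h5 : (t⁻¹) ^ 3 = 1 := by rw [inv_pow, ht3, inv_one]
    rcases cube_roots hw hw1 h5 with h | h | h
    · exact ⟨0, by rw [h, pow_zero]⟩
    · exact ⟨1, by rw [h, pow_one]⟩
    · exact ⟨2, h⟩
  refine ⟨(suScalar 2 s hs6 hs3)⁻¹, inv_mem (suScalar_mem_center 2 s hs6 hs3), k, g, ?_⟩
  have hx : xs t ht3 * (xs w hw) ^ k = 1 := by
    rw [xs_pow, xs_mul]
    refine Subtype.ext (Subtype.ext ?_)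
    show diagonal (xv (t * w ^ k)) = (1 : Matrix (Fin 6) (Fin 6) F)
    have ht0 : t ≠ 0 := by
      intro h; rw [h] at ht3; simp at ht3
    rw [← hk, mul_inv_cancel₀ ht0, ← diagonal_one]
    congr 1
    funext i
    fin_cases i <;> simp [xv]
  have hx' : (xs t ht3)⁻¹ = (xs w hw) ^ k := inv_eq_of_mul_eq_one_right hx
  have hzc : (suScalar 2 s hs6 hs3 : SU 6 F 2) ∈ Subgroup.center (SU 6 F 2) := suScalar_mem_center 2 s hs6 hs3
  have h6 : A = (suScalar 2 s hs6 hs3)⁻¹ * (xs t ht3)⁻¹ * io g := by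
    rw [← hg]; group
  rw [h6, hx']

end six

end Cfsg.Agent.H242.RIM
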