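import Cfsg.Agent.H588.RIM.KZero
import Cfsg.Agent.H781.U42Act
import Cfsg.Agent.H655.RIM.St81
import Cfsg.Prelude.Def_DegreeGraph

/-!
# S4816, `O8+(2)`, piece (S3): the pointwise stabiliser of `e 0`, `e 2` in `W(E8)'` (helper242)

`LX {0, 2} ≅ Ω₆⁻(2) ≅ PSp₄(3)`: `card_LX`, `mem_charDegrees_LX`.
-/

set_option autoImplicit false

namespace Cfsg.Agent.H242.RIM.EE

open Matrix Cfsg.Agent.OddHalf.D9.EEight Cfsg.Agent.OddHalf.D9.EEight.Id.Gen
open Cfsg.Agent.OddHalf.D9.EEight.Id.ModTwo Cfsg.Agent.OddHalf.D9.EEight.Id.Onto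
open Cfsg.Agent.LieClassical.OrthCore
open Cfsg.Agent.H588.RIM.KZ (Lt LX mem_LX)

theorem mem_LX_two {w : ↥K₀} : w ∈ LX {0, 2} ↔ ap (w : W) (e 0) = e 0 ∧ ap (w : W) (e 2) = e 2 := by
  rw [mem_LX]
  simp

/-- the pointwise stabiliser in `W` -/
def WX : Subgroup W where
  carrier := {w | ap w (e 0) = e 0 ∧ ap w (e 2) = e 2}
  one_mem' := ⟨ap_one _, ap_one _⟩
  mul_mem' := fun {a b} ha hb => by
    constructor
    · rw [ap_mul, hb.1, ha.1]
    · rw [ap_mul, hb.2, ha.2]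
  inv_mem' := fun {a} ha => by
    constructor
    · conv_lhs => rw [← ha.1]
      rw [ap_inv_ap]
    · conv_lhs => rw [← ha.2]
      rw [ap_inv_ap]

theorem mem_WX {w : W} : w ∈ WX ↔ ap w (e 0) = e 0 ∧ ap w (e 2) = e 2 := Iff.rfl

abbrev I6 : Type := (Fin 2 ⊕ Fin 2) ⊕ Fin 2

/-- a basis of the complement -/
def Bm : Matrix (Fin 8) I6 (ZMod 2) := fun j i =>
  Sum.elim (Sum.elim ![![0, 0, 0, 0, 0, 1, 0, 1], ![0, 1, 0, 0, 0, 0, 0, 1]]
    ![![0, 0, 0, 0, 1, 0, 0, 1], ![0, 1, 0, 0, 0, 1, 1, 0]])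
    ![![0, 1, 0, 0, 0, 0, 0, 0], ![1, 0, 0, 1, 0, 0, 1, 0]] i j

/-- the projection -/
def Cm : Matrix I6 (Fin 8) (ZMod 2) := fun i =>
  Sum.elim (Sum.elim ![![0, 0, 0, 1, 0, 1, 1, 0], ![0, 0, 0, 1, 1, 1, 1, 1]]
    ![![0, 0, 0, 0, 1, 0, 0, 0], ![0, 0, 0, 1, 0, 0, 1, 0]])
    ![![0, 1, 0, 0, 1, 1, 0, 1], ![0, 0, 0, 1, 0, 0, 0, 0]] i

/-- the forms of the two roots -/
def Rm : Matrix (Fin 2) (Fin 8) (ZMod 2) := ![![0, 0, 1, 0, 0, 0, 0, 0], ![1, 0, 0, 1, 0, 0, 0, 0]]

/-- the two roots -/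
def Dm : Matrix (Fin 8) (Fin 2) (ZMod 2) := fun j i => ![![0, 0, 1, 0, 0, 0, 0, 0], ![1, 0, 0, 0, 0, 0, 0, 0]] i j

set_option maxRecDepth 4000 in
theorem Cm_mul_Bm : Cm * Bm = 1 := by decide +kernel

set_option maxRecDepth 4000 in
theorem Rm_mul_Bm : Rm * Bm = 0 := by decide +kernel

set_option maxRecDepth 4000 in
theorem Bm_mul_Cm : Bm * Cm + Dm * Rm = 1 := by decide +kernel

set_option maxRecDepth 10000 in
theorem quad_Bm : ∀ y : I6 → ZMod 2, qb (Bm *ᵥ y) = Cfsg.quadFormMinus 2 (ZMod 2) 1 1 y := by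
  decide +kernel

/-- the matrix modulo 2 -/
noncomputable def rb (w : W) : Matrix (Fin 8) (Fin 8) (ZMod 2) := ((rho0 w : (Matrix (Fin 8) (Fin 8) (ZMod 2))ˣ) : Matrix (Fin 8) (Fin 8) (ZMod 2))

theorem rb_one : rb 1 = 1 := by
  unfold rb
  rw [map_one]
  rfl

theorem rb_mul (v w : W) : rb (v * w) = rb v * rb w := by
  unfold rb
  rw [map_mul]
  rfl

theorem rb_mo (w : W) (x : Lt) : rb w *ᵥ mo x = mo (ap w x) := by
  rw [← mo_ap]
  rfl

theorem qb_rb (w : W) (v : V8) : qb (rb w *ᵥ v) = qb v := by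
  rw [← mo_lift v, rb_mo, qb_mo, qb_mo, q_ap]

theorem Rm_mo (x : Lt) : Rm *ᵥ mo x = ![((form (e 0) x : ℤ) : ZMod 2), ((form (e 2) x : ℤ) : ZMod 2)] := by
  have h2 : (2 : ZMod 2) = 0 := by decide
  have hn : ∀ a : ZMod 2, -a = a := by decide
  rw [form_comm (e 0), form_comm (e 2), form_expl, form_expl]
  funext i
  fin_cases i
  · simp [Matrix.mulVec, dotProduct, Fin.sum_univ_eight, Rm, mo, e, h2, hn]
  · simp [Matrix.mulVec, dotProduct, Fin.sum_univ_eight, Rm, mo, e, h2, hn, sub_eq_add_neg]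

theorem mo_two (x : Lt) : mo x 2 = ((form (e 0) x : ℤ) : ZMod 2) := by
  have h := congrFun (Rm_mo x) 0
  have h1 : (Rm *ᵥ mo x) 0 = mo x 2 := by
    simp [Matrix.mulVec, dotProduct, Fin.sum_univ_eight, Rm]
  rw [h1] at h
  exact h

theorem Rm_rb {w : W} (hw : w ∈ WX) : Rm * rb w = Rm := by
  apply Matrix.ext_of_mulVec_single
  intro j
  rw [← mo_lift (Pi.single j 1), ← mulVec_mulVec, rb_mo, Rm_mo, Rm_mo]
  have h0 : form (e 0) (ap w (lift (Pi.single j 1))) = form (e 0) (lift (Pi.single j 1)) := by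
    conv_lhs => rw [← hw.1]
    exact form_ap _ _ _
  have h2 : form (e 2) (ap w (lift (Pi.single j 1))) = form (e 2) (lift (Pi.single j 1)) := by
    conv_lhs => rw [← hw.2]
    exact form_ap _ _ _
  rw [h0, h2]

/-- the matrix on the complement -/
noncomputable def ab (w : W) : Matrix I6 I6 (ZMod 2) := Cm * rb w * Bm

theorem rb_Bm {w : W} (hw : w ∈ WX) : rb w * Bm = Bm * ab w := by
  have h : rb w * Bm = (Bm * Cm + Dm * Rm) * (rb w * Bm) := by rw [Bm_mul_Cm, Matrix.one_mul]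
  rw [h, Matrix.add_mul, Matrix.mul_assoc Dm, ← Matrix.mul_assoc Rm, Rm_rb hw, Rm_mul_Bm, Matrix.mul_zero, add_zero]
  unfold ab
  simp only [Matrix.mul_assoc]

theorem ab_one : ab 1 = 1 := by
  unfold ab
  rw [rb_one, Matrix.mul_one, Cm_mul_Bm]

theorem ab_mul (v : W) {w : W} (hw : w ∈ WX) : ab (v * w) = ab v * ab w := by
  have h : ab (v * w) = Cm * rb v * (rb w * Bm) := by
    unfold ab
    rw [rb_mul]
    simp only [Matrix.mul_assoc]
  rw [h, rb_Bm hw]
  show Cm * rb v * (Bm * ab w) = Cm * rb v * Bm * ab w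
  simp only [Matrix.mul_assoc]

/-- the homomorphism to matrices -/
noncomputable def abHom : ↥WX →* Matrix I6 I6 (ZMod 2) where
  toFun w := ab w
  map_one' := ab_one
  map_mul' v w := ab_mul v w.2

/-- the homomorphism to `GL₆(2)` -/
noncomputable def gHom : ↥WX →* GL I6 (ZMod 2) := abHom.toHomUnits

theorem coe_gHom (w : ↥WX) : ((gHom w : GL I6 (ZMod 2)) : Matrix I6 I6 (ZMod 2)) = ab w := rfl

theorem gHom_mem (w : ↥WX) : gHom w ∈ Cfsg.isometryGroup (ZMod 2) (Cfsg.quadFormMinus 2 (ZMod 2) 1 1) := by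
  rw [Cfsg.Agent.LieClassical.OmegaReindex.mem_isometryGroup]
  intro y
  rw [coe_gHom, ← quad_Bm, ← quad_Bm, mulVec_mulVec, ← rb_Bm w.2, ← mulVec_mulVec, qb_rb]

/-- the homomorphism to `O₆⁻(2)` -/
noncomputable def oHom : ↥WX →* Cfsg.isometryGroup (ZMod 2) (Cfsg.quadFormMinus 2 (ZMod 2) 1 1) :=
  gHom.codRestrict _ gHom_mem

theorem rb_eq_one {w : W} (hw : w ∈ WX) (h : ab w = 1) : rb w = 1 := by
  have h1 : rb w * Bm = Bm := by rw [rb_Bm hw, h, Matrix.mul_one]
  have h2 : rb w * Dm = Dm := by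
    apply Matrix.ext_of_mulVec_single
    intro i
    rw [← mulVec_mulVec]
    have e0 : Dm *ᵥ (Pi.single (0 : Fin 2) (1 : ZMod 2)) = mo (e 2) := by decide +kernel
    have e1 : Dm *ᵥ (Pi.single (1 : Fin 2) (1 : ZMod 2)) = mo (e 0) := by decide +kernel
    fin_cases i
    · show rb w *ᵥ (Dm *ᵥ (Pi.single (0 : Fin 2) (1 : ZMod 2))) = Dm *ᵥ (Pi.single (0 : Fin 2) (1 : ZMod 2))
      rw [e0, rb_mo, hw.2]
    · show rb w *ᵥ (Dm *ᵥ (Pi.single (1 : Fin 2) (1 : ZMod 2))) = Dm *ᵥ (Pi.single (1 : Fin 2) (1 : ZMod 2))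
      rw [e1, rb_mo, hw.1]
  calc rb w = rb w * (Bm * Cm + Dm * Rm) := by rw [Bm_mul_Cm, Matrix.mul_one]
    _ = 1 := by rw [Matrix.mul_add, ← Matrix.mul_assoc, ← Matrix.mul_assoc, h1, h2, Bm_mul_Cm]

theorem eq_one_of_ab {w : W} (hw : w ∈ WX) (h : ab w = 1) : w = 1 := by
  have h1 := rb_eq_one hw h
  have h2 : rho2 w = 1 := by
    apply LinearEquiv.ext
    intro v
    obtain ⟨x, rfl⟩ := red_surj v
    rw [rho2_red]
    unfold red
    rw [← rb_mo, h1, one_mulVec]
    rfl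
  rcases eq_of_rho2 h2 with h3 | h3
  · exact h3
  · exfalso
    have h4 := hw.1
    rw [h3, ap_neg_one] at h4
    have h5 := congrFun h4 0
    unfold e at h5
    rw [Pi.neg_apply, Pi.single_eq_same] at h5
    omega

theorem oHom_injective : Function.Injective oHom := by
  rw [injective_iff_map_eq_one]
  intro w hw
  apply Subtype.ext
  apply eq_one_of_ab w.2
  have h := congrArg (fun g : Cfsg.isometryGroup (ZMod 2) (Cfsg.quadFormMinus 2 (ZMod 2) 1 1) =>
    ((g : GL I6 (ZMod 2)) : Matrix I6 I6 (ZMod 2))) hw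
  exact h

/-! ### the order -/

theorem card_le_fib {G : Type*} [Group G] [Finite G] {K H : Subgroup G} {α : Type*} (f : G → α) (T : Finset α)
    (hT : ∀ g ∈ K, f g ∈ T) (hf : ∀ x ∈ K, ∀ y ∈ K, f x = f y → x⁻¹ * y ∈ H) :
    Nat.card K ≤ T.card * Nat.card H := by
  classical
  let r : ↥K → G := fun g => (⟨g, g.2, rfl⟩ : ∃ x, x ∈ K ∧ f x = f g).choose
  have hr : ∀ g : ↥K, r g ∈ K ∧ f (r g) = f g := fun g => (⟨g, g.2, rfl⟩ : ∃ x, x ∈ K ∧ f x = f g).choose_spec
  have hrr : ∀ g g' : ↥K, f g = f g' → r g = r g' := by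
    intro g g' h
    show (⟨g, g.2, rfl⟩ : ∃ x, x ∈ K ∧ f x = f g).choose = (⟨g', g'.2, rfl⟩ : ∃ x, x ∈ K ∧ f x = f g').choose
    congr 1
    funext x
    rw [h]
  let φ : ↥K → ↥T × ↥H := fun g => (⟨f g, hT g g.2⟩, ⟨(r g)⁻¹ * g, hf _ (hr g).1 _ g.2 (hr g).2⟩)
  have hφ : Function.Injective φ := by
    intro g g' h
    have h1 : f g = f g' := congrArg (fun z => (z.1 : α)) h
    have h2 : (r g)⁻¹ * g = (r g')⁻¹ * g' := congrArg (fun z => (z.2 : G)) h
    rw [hrr g g' h1] at h2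
    exact Subtype.ext (mul_left_cancel h2)
  have h := Nat.card_le_card_of_injective φ hφ
  rw [Nat.card_prod, Nat.card_eq_fintype_card (α := ↥T), Fintype.card_coe] at h
  exact h

theorem ap_root_of_mo {w : W} {a : Lt} (ha : IsRoot a) (h : mo (ap w a) = mo a) : ap w a = a ∨ ap w a = -a := by
  have h1 : red (ap w a) = red a := by
    unfold red
    rw [h]
  obtain ⟨u, hu⟩ := exists_of_red h1
  have h2 : form a a = 2 := ha
  have h3 : form (ap w a) (ap w a) = 2 := by rw [form_ap, h2]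
  have h4 : form (ap w a) (ap w a) = form a a + 4 * form a u + 4 * form u u := by
    rw [hu, form_add_left, form_add_right, form_add_right, form_smul_left, form_smul_left,
      form_smul_right, form_smul_right, form_comm u a]; ring
  have h5 : form u u = 2 * q u := form_self u
  have h6 : 0 ≤ form u u := form_nonneg u
  have h7 : 0 ≤ form (ap w a + a) (ap w a + a) := form_nonneg _
  have h8 : form (ap w a + a) (ap w a + a) = 4 + 2 * form (ap w a) a := by
    rw [form_add_left, form_add_right, form_add_right, h3, h2, form_comm a]; ring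
  have h9 : form (ap w a) a = 2 + 2 * form a u := by
    rw [hu, form_add_left, form_smul_left, h2, form_comm u a]
  have h10 : form u u = 0 ∨ form u u = 2 := by omega
  rcases h10 with h | h
  · left
    rw [hu, eq_zero_of_form h.le, smul_zero, add_zero]
  · right
    have h11 : form (ap w a + a) (ap w a + a) ≤ 0 := by omega
    exact eq_neg_of_add_eq_zero_left (eq_zero_of_form h11)

theorem mo_ap_congr (w : W) {x y : Lt} (h : mo x = mo y) : mo (ap w x) = mo (ap w y) := by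
  rw [← rb_mo, ← rb_mo, h]

/-- the stabiliser of `e 0` modulo 2 -/
def Hone : Subgroup ↥K₀ where
  carrier := {w | mo (ap (w : W) (e 0)) = mo (e 0)}
  one_mem' := congrArg mo (ap_one (e 0))
  mul_mem' := fun {a b} ha hb => by
    show mo (ap ((a : W) * (b : W)) (e 0)) = mo (e 0)
    rw [ap_mul, mo_ap_congr _ hb]
    exact ha
  inv_mem' := fun {a} ha => by
    show mo (ap ((a : W)⁻¹) (e 0)) = mo (e 0)
    have h : mo (ap ((a : W)⁻¹) (ap (a : W) (e 0))) = mo (ap ((a : W)⁻¹) (e 0)) := mo_ap_congr _ ha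
    rw [ap_inv_ap] at h
    exact h.symm

/-- the stabiliser of `e 0`, `e 2` modulo 2 -/
def Htwo : Subgroup ↥K₀ where
  carrier := {w | mo (ap (w : W) (e 0)) = mo (e 0) ∧ mo (ap (w : W) (e 2)) = mo (e 2)}
  one_mem' := ⟨congrArg mo (ap_one (e 0)), congrArg mo (ap_one (e 2))⟩
  mul_mem' := fun {a b} ha hb => by
    constructor
    · show mo (ap ((a : W) * (b : W)) (e 0)) = mo (e 0)
      rw [ap_mul, mo_ap_congr _ hb.1]
      exact ha.1
    · show mo (ap ((a : W) * (b : W)) (e 2)) = mo (e 2)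
      rw [ap_mul, mo_ap_congr _ hb.2]
      exact ha.2
  inv_mem' := fun {a} ha => by
    constructor
    · show mo (ap ((a : W)⁻¹) (e 0)) = mo (e 0)
      have h : mo (ap ((a : W)⁻¹) (ap (a : W) (e 0))) = mo (ap ((a : W)⁻¹) (e 0)) := mo_ap_congr _ ha.1
      rw [ap_inv_ap] at h
      exact h.symm
    · show mo (ap ((a : W)⁻¹) (e 2)) = mo (e 2)
      have h : mo (ap ((a : W)⁻¹) (ap (a : W) (e 2))) = mo (ap ((a : W)⁻¹) (e 2)) := mo_ap_congr _ ha.2
      rw [ap_inv_ap] at h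
      exact h.symm

theorem mo_inv_mul {x y : W} {a : Lt} (h : mo (ap x a) = mo (ap y a)) : mo (ap (x⁻¹ * y) a) = mo a := by
  rw [ap_mul, ← mo_ap_congr x⁻¹ h, ap_inv_ap]

/-- vectors of norm 1 -/
def TOne : Finset V8 := Finset.univ.filter fun v => qb v = 1

/-- vectors of norm 1 not orthogonal to `e 0` -/
def TTwo : Finset V8 := Finset.univ.filter fun v => qb v = 1 ∧ v 2 = 1

set_option maxRecDepth 10000 in
theorem card_TOne : TOne.card = 120 := by decide +kernel

set_option maxRecDepth 10000 in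
theorem card_TTwo : TTwo.card = 56 := by decide +kernel

theorem qb_root {a : Lt} (ha : IsRoot a) (w : W) : qb (mo (ap w a)) = 1 := by
  rw [qb_mo, q_ap, q_root ha, Int.cast_one]

theorem card_ker : 2 ≤ Nat.card toE.ker ∧ Finite ↥toE.ker := by
  have h1 : ∀ w : ↥toE.ker, (w : ↥K₀) = 1 ∨ (w : ↥K₀) = negK := by
    intro w
    have h2 : rho2 ((w : ↥K₀) : W) = 1 := by
      rw [← coe_toE, w.2]
      rfl
    rcases eq_of_rho2 h2 with h3 | h3
    · exact Or.inl (Subtype.ext h3)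
    · exact Or.inr (Subtype.ext h3)
  have h3 : negK ∈ toE.ker := by
    rw [MonoidHom.mem_ker]
    apply Subtype.ext
    rw [coe_toE]
    exact rho2_neg
  have hfin : Finite ↥toE.ker := by
    have : (toE.ker : Set ↥K₀) ⊆ {1, negK} := by
      intro w hw
      rcases h1 ⟨w, hw⟩ with h | h
      · exact Or.inl h
      · exact Or.inr h
    exact Set.Finite.subset (Set.toFinite _) this
  refine ⟨?_, hfin⟩
  have hn : Nontrivial ↥toE.ker := ⟨⟨negK, h3⟩, 1, fun h => negK_ne_one (congrArg Subtype.val h)⟩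
  exact Finite.one_lt_card

theorem index_ker : toE.ker.index = 174182400 := by
  rw [Subgroup.index_ker, MonoidHom.range_eq_top.2 toE_surj, Subgroup.card_top, card_E]

instance finite_K : Finite ↥K₀ := by
  have h := toE.ker.card_mul_index
  rw [index_ker] at h
  have := card_ker.1
  exact Nat.finite_of_card_ne_zero (by omega)

theorem card_K_ge : 348364800 ≤ Nat.card ↥K₀ := by
  have h := toE.ker.card_mul_index
  rw [index_ker] at h
  have := card_ker.1
  omega

theorem card_LX_ge : 25920 ≤ Nat.card (LX {0, 2}) := by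
  have h1 : Nat.card (⊤ : Subgroup ↥K₀) ≤ TOne.card * Nat.card Hone := by
    refine card_le_fib (G := ↥K₀) (K := ⊤) (H := Hone) (fun w => mo (ap (w : W) (e 0))) TOne (fun w _ => ?_)
      (fun x _ y _ h => mo_inv_mul h)
    unfold TOne
    rw [Finset.mem_filter]
    exact ⟨Finset.mem_univ _, qb_root (isRoot_e 0) _⟩
  have h2 : Nat.card Hone ≤ TTwo.card * Nat.card Htwo := by
    refine card_le_fib (G := ↥K₀) (K := Hone) (H := Htwo) (fun w => mo (ap (w : W) (e 2))) TTwo (fun w hw => ?_)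
      (fun x hx y hy h => ⟨mo_inv_mul (hx.trans hy.symm), mo_inv_mul h⟩)
    unfold TTwo
    rw [Finset.mem_filter]
    refine ⟨Finset.mem_univ _, qb_root (isRoot_e 2) _, ?_⟩
    have h4 : form (ap (w : W) (e 0)) (ap (w : W) (e 2)) = form (e 0) (e 2) := form_ap _ _ _
    have h5 : ap (w : W) (e 0) = e 0 ∨ ap (w : W) (e 0) = - e 0 := ap_root_of_mo (isRoot_e 0) hw
    rw [mo_two]
    have h7 : form (e 0) (e 2) = -1 := by
      rw [form_e_e]
      decide
    rw [h7] at h4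
    rcases h5 with h5 | h5
    · rw [h5] at h4
      rw [h4]
      decide
    · rw [h5, form_neg_left] at h4
      have h8 : form (e 0) (ap (w : W) (e 2)) = 1 := by omega
      rw [h8]
      decide
  have h3 : Nat.card Htwo ≤ ({e 0, - e 0} : Finset Lt).card * Nat.card (LX {0, 2}) := by
    refine card_le_fib (G := ↥K₀) (K := Htwo) (H := LX {0, 2}) (fun w => ap (w : W) (e 0)) _ (fun w hw => ?_)
      (fun x hx y hy h => ?_)
    · rw [Finset.mem_insert, Finset.mem_singleton]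
      exact ap_root_of_mo (isRoot_e 0) hw.1
    · have hz := Htwo.mul_mem (Htwo.inv_mem hx) hy
      have h0 : ap ((x⁻¹ * y : ↥K₀) : W) (e 0) = e 0 := by
        show ap ((x : W)⁻¹ * (y : W)) (e 0) = e 0
        have h' : ap (x : W) (e 0) = ap (y : W) (e 0) := h
        rw [ap_mul, ← h', ap_inv_ap]
      rw [mem_LX_two]
      refine ⟨h0, ?_⟩
      rcases ap_root_of_mo (isRoot_e 2) hz.2 with h2 | h2
      · exact h2
      · exfalso
        have h4 := form_ap ((x⁻¹ * y : ↥K₀) : W) (e 0) (e 2)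
        rw [h0, h2, form_neg_right, form_e_e] at h4
        revert h4
        decide
  have h4 : ({e 0, - e 0} : Finset Lt).card ≤ 2 := Finset.card_le_two
  have h5 := card_K_ge
  rw [Subgroup.card_top] at h1
  rw [card_TOne] at h1
  rw [card_TTwo] at h2
  have h6 : ({e 0, - e 0} : Finset Lt).card * Nat.card (LX {0, 2}) ≤ 2 * Nat.card (LX {0, 2}) :=
    Nat.mul_le_mul_right _ h4
  omega

/-! ### the isomorphism -/

/-- `LX {0, 2} → WX` -/
noncomputable def lHom : ↥(LX {0, 2}) →* ↥WX :=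
  (K₀.subtype.comp (LX {0, 2}).subtype).codRestrict WX fun w => mem_LX_two.1 w.2

theorem lHom_injective : Function.Injective lHom := by
  intro x y h
  apply Subtype.ext
  apply Subtype.ext
  exact congrArg (fun z : ↥WX => (z : W)) h

theorem s_one_mem : s 1 ∈ WX := by
  rw [mem_WX]
  constructor
  · rw [ap_s, form_e_e]
    have h : (GM 0 1 : ℤ) = 0 := by decide
    rw [h, zero_smul, sub_zero]
  · rw [ap_s, form_e_e]
    have h : (GM 2 1 : ℤ) = 0 := by decide
    rw [h, zero_smul, sub_zero]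

theorem lHom_range : lHom.range ≠ ⊤ := by
  intro h
  have h1 : (⟨s 1, s_one_mem⟩ : ↥WX) ∈ lHom.range := by rw [h]; exact Subgroup.mem_top _
  obtain ⟨w, hw⟩ := h1
  have h2 : ((w : ↥K₀) : W) = s 1 := congrArg Subtype.val hw
  have h3 : det ((w : ↥K₀) : W) = 1 := (w : ↥K₀).2
  rw [h2, det_s] at h3
  revert h3
  decide

instance finite_iso : Finite ↥(Cfsg.isometryGroup (ZMod 2) (Cfsg.quadFormMinus 2 (ZMod 2) 1 1)) :=
  Nat.finite_of_card_ne_zero (by
    have h := Cfsg.Agent.H845.AutUFour.card_isometry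
    rw [show Nat.card ↥(Cfsg.isometryGroup (ZMod 2) (Cfsg.quadFormMinus 2 (ZMod 2) 1 1)) = 51840 from h]
    norm_num)

instance finite_WX : Finite ↥WX := Finite.of_injective oHom oHom_injective

theorem card_WX_le : Nat.card ↥WX ≤ 51840 := by
  rw [← Cfsg.Agent.H845.AutUFour.card_isometry]
  exact Nat.card_le_card_of_injective oHom oHom_injective

/-- **the order** -/
theorem card_LX : Nat.card (LX {0, 2}) = 25920 := by
  have h1 := card_LX_ge
  have h2 := lHom.range.card_mul_index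
  have h3 : lHom.range.index ≠ 1 := fun h => lHom_range (Subgroup.index_eq_one.1 h)
  have h4 : lHom.range.index ≠ 0 := Subgroup.index_ne_zero_of_finite
  have h5 : Nat.card lHom.range = Nat.card (LX {0, 2}) :=
    (Nat.card_congr (MonoidHom.ofInjective lHom_injective).toEquiv).symm
  have h6 := card_WX_le
  rw [h5] at h2
  have h7 : 2 ≤ lHom.range.index := by omega
  have h8 : Nat.card (LX {0, 2}) * 2 ≤ Nat.card (LX {0, 2}) * lHom.range.index := Nat.mul_le_mul_left _ h7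
  omega

/-- an injection of a group of order 25920 into `O₆⁻(2)` has image `Ω₆⁻(2)` -/
theorem range_eq {G : Type*} [Group G] (hG : Nat.card G = 25920)
    (f : G →* ↥(Cfsg.isometryGroup (ZMod 2) (Cfsg.quadFormMinus 2 (ZMod 2) 1 1))) (hf : Function.Injective f) :
    f.range = Cfsg.Omega (ZMod 2) (Cfsg.quadFormMinus 2 (ZMod 2) 1 1) := by
  have h1 := f.range.card_mul_index
  have h2 : Nat.card f.range = 25920 := by
    rw [← hG]
    exact (Nat.card_congr (MonoidHom.ofInjective hf).toEquiv).symm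
  have h3 : Nat.card ↥(Cfsg.isometryGroup (ZMod 2) (Cfsg.quadFormMinus 2 (ZMod 2) 1 1)) = 51840 :=
    Cfsg.Agent.H845.AutUFour.card_isometry
  have h4 : Nat.card ↥(Cfsg.Omega (ZMod 2) (Cfsg.quadFormMinus 2 (ZMod 2) 1 1)) = 25920 :=
    Cfsg.Agent.H845.AutUFour.card_omega
  have h5 : f.range.index = 2 := by
    rw [h2, h3] at h1
    omega
  have h6 : Cfsg.Omega (ZMod 2) (Cfsg.quadFormMinus 2 (ZMod 2) 1 1) ≤ f.range := by
    show commutator _ ≤ _
    rw [commutator_def, Subgroup.commutator_le]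
    intro a _ b _
    rw [commutatorElement_def, Subgroup.mul_mem_iff_of_index_two h5, Subgroup.mul_mem_iff_of_index_two h5,
      Subgroup.mul_mem_iff_of_index_two h5, Subgroup.inv_mem_iff, Subgroup.inv_mem_iff]
    tauto
  exact (Subgroup.eq_of_le_of_card_ge h6 (by rw [h2, h4])).symm

theorem nonempty_equiv {F : Type*} [Field F] [Fintype F] (hF : Fintype.card F = 4) :
    Nonempty (↥(LX {0, 2}) ≃* Cfsg.PSU 4 F 2) := by
  obtain ⟨e1⟩ := Cfsg.Agent.H781.U42Act.exists_omega hF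
  have hinj : Function.Injective (oHom.comp lHom) := oHom_injective.comp lHom_injective
  have e2 := MonoidHom.ofInjective hinj
  have e3 := MulEquiv.subgroupCongr (range_eq card_LX (oHom.comp lHom) hinj)
  exact ⟨(e2.trans e3).trans e1.symm⟩

/-- **the Steinberg character of degree 81** -/
theorem exists_eightyone : ∃ χ : ↥(LX {0, 2}) → ℂ, Cfsg.IsIrrCharacter ↥(LX {0, 2}) χ ∧ Cfsg.charDegree χ = 81 := by
  have hp : Fact (Nat.Prime 2) := ⟨Nat.prime_two⟩
  have : Fintype (GaloisField 2 2) := Fintype.ofFinite _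
  have hF : Fintype.card (GaloisField 2 2) = 4 := by
    have h := GaloisField.card 2 2 (by norm_num)
    rw [Nat.card_eq_fintype_card] at h
    rw [h]
    norm_num
  obtain ⟨e1⟩ := nonempty_equiv hF
  obtain ⟨e⟩ := S0822.result (F := GaloisField 2 2) (K := ZMod 3) hF (by rw [ZMod.card])
  obtain ⟨χ, hχ, hχ1⟩ := S2545.result (F := ZMod 3) 3 2 (by norm_num)
  obtain ⟨h1, -⟩ := hχ1 default
  let f : ↥(LX {0, 2}) →* Cfsg.PSp 2 (ZMod 3) := (e1.trans e).toMonoidHom
  have hf : Function.Surjective f := (e1.trans e).surjective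
  refine ⟨χ ∘ f, Characters.Core.isIrr_comp f hf hχ, Blocks.Basic.charDegree_of_eq ?_⟩
  show χ (f 1) = _
  rw [map_one, h1, Sylow.card_eq_multiplicity, ← Nat.card_congr e.toEquiv, H655.RIM.card_psu4 hF, H655.RIM.fact_num]
  norm_num

theorem mem_charDegrees_LX : 81 ∈ Cfsg.charDegrees ↥(LX {0, 2}) := by
  obtain ⟨χ, h1, h2⟩ := exists_eightyone
  exact ⟨⟨χ, h1⟩, h2⟩

end Cfsg.Agent.H242.RIM.EE
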