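import Cfsg.Agent.H242.RIM.Mat
import Cfsg.Agent.KFacts.Mult.UnitLit
import Cfsg.Agent.KFacts.MulLift
import Cfsg.Agent.LieClassical.HermPerfect

/-!
# S4816, `U₆(2)`, `p = 3`: the centralizer `3 × 2 × U₄(2)` in the double cover (helper242)
-/

set_option autoImplicit false
set_option linter.unusedSectionVars false

namespace Cfsg.Agent.H242.RIM

open Cfsg Matrix Cfsg.Agent.LieClassical.SUBasic Cfsg.Agent.H494.PSURow Cfsg.Agent.H494.SLHom
open Cfsg.Agent.KFacts.MulDef

universe u

variable {F : Type} [Field F] [Fintype F]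

/-- `SU₄ → SU₅` -/
def i45 : SU 4 F 2 →* SU 5 F 2 := (blk 1 4 F 2).comp (MonoidHom.inr (SU 1 F 2) (SU 4 F 2))

/-- `SU₅ → SU₆` -/
def i56 : SU 5 F 2 →* SU 6 F 2 := (blk 1 5 F 2).comp (MonoidHom.inr (SU 1 F 2) (SU 5 F 2))

theorem i56_i45 (g : SU 4 F 2) : i56 (i45 g) = io g := by
  refine ext_mt fun i j => ?_
  rw [mt_io]
  fin_cases i <;> fin_cases j <;> rfl

theorem io_injective : Function.Injective (io (F := F)) := by
  intro g h hgh
  have h1 : (1, g) = ((1, h) : SU 2 F 2 × SU 4 F 2) := blk_injective 2 4 2 hgh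
  exact congrArg Prod.snd h1

/-- `x` commutes with `SU₄` -/
theorem xs_io {w : F} (hw : w ^ 3 = 1) (g : SU 4 F 2) : xs w hw * io g = io g * xs w hw := by
  refine ext_mt fun i j => ?_
  rw [mt_mul, mt_mul, mt_xs, diagonal_mul, mul_diagonal, mt_io]
  fin_cases i <;> fin_cases j <;> simp [xv, mul_comm]

theorem center_five (hF : Fintype.card F = 2 ^ 2) : Subgroup.center (SU 5 F 2) = ⊥ := by
  rw [eq_bot_iff]
  intro A hA
  obtain ⟨c, hcn, hcq, rfl⟩ := (mem_center_SU_iff hF (by norm_num) A).1 hA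
  have hc : c = 1 := by
    have h3 : c ^ 3 = 1 := hcq
    have h5 : c ^ 5 = 1 := hcn
    calc c = c ^ 5 * c := by rw [h5, one_mul]
      _ = (c ^ 3) ^ 2 := by ring
      _ = 1 := by rw [h3, one_pow]
  subst hc
  rw [Subgroup.mem_bot]
  refine Subtype.ext (Subtype.ext ?_)
  exact diagonal_one

theorem noDouble_five (hF : Fintype.card F = 2 ^ 2) : NoDouble (SU 5 F 2) := by
  have h1 : NoDouble (PSU 5 F 2) := by
    have := KFacts.Mult.UnitLit.u5 F 1 le_rfl (by rw [hF]; norm_num)
    rwa [pow_one] at this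
  exact h1.congr ((QuotientGroup.quotientMulEquivOfEq (center_five hF)).trans QuotientGroup.quotientBot)

/-- the projection -/
abbrev pr6 : SU 6 F 2 →* PSU 6 F 2 := QuotientGroup.mk' (Subgroup.center (SU 6 F 2))

theorem pr6_eq_one {A : SU 6 F 2} : pr6 A = 1 ↔ A ∈ Subgroup.center (SU 6 F 2) := by
  rw [← MonoidHom.mem_ker, QuotientGroup.ker_mk']

/-- `x^k ι(g)` is scalar only if trivial -/
theorem inj_aux (hF : Fintype.card F = 2 ^ 2) {t : F} (ht : t ^ 3 = 1) {g : SU 4 F 2}
    (h : xs t ht * io g ∈ Subgroup.center (SU 6 F 2)) : t = 1 ∧ g = 1 := by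
  obtain ⟨c, hcn, hcq, h1⟩ := (mem_center_SU_iff hF (by norm_num) _).1 h
  have h2 : ∀ i j, xv t i * mt (io g) i j = (diagonal (fun _ => c) : Matrix (Fin 6) (Fin 6) F) i j := by
    intro i j
    have h3 : mt (xs t ht * io g) i j = (diagonal (fun _ => c) : Matrix (Fin 6) (Fin 6) F) i j := by rw [h1]; rfl
    rw [mt_mul, mt_xs, diagonal_mul] at h3
    exact h3
  have h00 : t = c := by
    have := h2 0 0
    rw [mt_io, diagonal_apply_eq] at this
    simpa [xv] using this
  have h11 : t ^ 2 = c := by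
    have := h2 1 1
    rw [mt_io, diagonal_apply_eq] at this
    simpa [xv] using this
  have ht0 : t ≠ 0 := by
    intro h; rw [h] at ht; simp at ht
  have ht1 : t = 1 := by
    have h3 : t * (t - 1) = 0 := by linear_combination h11 - h00
    exact sub_eq_zero.1 ((mul_eq_zero.1 h3).resolve_left ht0)
  refine ⟨ht1, ?_⟩
  subst ht1
  have h4 : io g = 1 := by
    refine ext_mt fun i j => ?_
    have h5 := h2 i j
    rw [← h00] at h5
    have h6 : xv (1 : F) i = 1 := by fin_cases i <;> simp [xv]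
    rw [h6, one_mul] at h5
    rw [h5]
    exact congrFun (congrFun diagonal_one i) j
  exact io_injective (by rw [h4, map_one])

theorem geo {E : Type u} [Group E] [Finite E] {F : Type} [Field F] [Fintype F] (hF : Fintype.card F = 4)
    (π : E →* PSU 6 F 2) (hs : Function.Surjective π) (hc : π.ker ≤ Subgroup.center E) (hp : commutator E = ⊤)
    (h2 : Nat.card π.ker = 2) :
    ∃ (x : E) (φ : Multiplicative (ZMod 3) × π.ker × SU 4 F 2 →* E), orderOf x = 3 ∧ Function.Injective φ ∧
      φ.range = Subgroup.centralizer {x} ∧ φ (Multiplicative.ofAdd 1, 1, 1) = x ∧ ∀ z : π.ker, φ (1, z, 1) = z := by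
  classical
  have hF' : Fintype.card F = 2 ^ 2 := hF
  have hzz : ∀ z ∈ π.ker, z * z = 1 := by
    intro z hz
    have h3 : (⟨z, hz⟩ : π.ker) ^ Nat.card π.ker = 1 := pow_card_eq_one'
    rw [h2, pow_two] at h3
    exact congrArg Subtype.val h3
  have hcc : ∀ z ∈ π.ker, ∀ e : E, z * e = e * z := fun z hz e => (Subgroup.mem_center_iff.1 (hc hz) e).symm
  -- the double cover
  obtain ⟨c, hck, hcne, hcu⟩ : ∃ c ∈ π.ker, c ≠ 1 ∧ ∀ z ∈ π.ker, z = 1 ∨ z = c := by
    obtain ⟨a, b, hab, huniv⟩ := Nat.card_eq_two_iff.1 h2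
    have hall : ∀ z : π.ker, z = a ∨ z = b := by
      intro z
      have : z ∈ ({a, b} : Set π.ker) := by rw [huniv]; trivial
      exact this
    rcases hall 1 with h | h
    · refine ⟨b, b.2, fun h3 => hab (h.symm.trans (Subtype.ext h3.symm)), fun z hz => ?_⟩
      rcases hall ⟨z, hz⟩ with h4 | h4
      · left; exact congrArg Subtype.val (h4.trans h.symm)
      · right; exact congrArg Subtype.val h4
    · refine ⟨a, a.2, fun h3 => hab ((Subtype.ext h3 : a = 1).trans h), fun z hz => ?_⟩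
      rcases hall ⟨z, hz⟩ with h4 | h4
      · right; exact congrArg Subtype.val h4
      · left; exact congrArg Subtype.val (h4.trans h.symm)
  have hd : Dbl π c :=
    { ne := hcne
      sq := hzz c hck
      cen := hcc c hck
      perf := hp
      surj := hs
      ker := fun y => ⟨fun h => hcu y h, by
        rintro (rfl | rfl)
        · exact map_one π
        · exact hck⟩ }
  -- the lift of `SU₅`
  obtain ⟨s, hs5⟩ := Cfsg.Agent.KFacts.MulLift.exists_lift_of_noDouble (K := SU 5 F 2)
    (LieClassical.HermPerfect.commutator_SU_eq_top hF' (by norm_num) (by norm_num)) (noDouble_five hF')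
    (pr6.comp i56) hd
  set j : SU 4 F 2 →* E := s.comp i45 with hj
  have hjπ : ∀ g, π (j g) = pr6 (io g) := by
    intro g
    rw [hj, MonoidHom.comp_apply, hs5, MonoidHom.comp_apply, i56_i45]
  -- the element `x`
  obtain ⟨w, hw0, hw1⟩ : ∃ w : F, w ≠ 0 ∧ w ≠ 1 := by
    by_contra hcon
    push Not at hcon
    have h3 : Fintype.card F ≤ Fintype.card Bool := by
      refine Fintype.card_le_of_injective (fun a : F => decide (a = 0)) ?_
      intro a b hab
      simp only [decide_eq_decide] at hab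
      by_cases ha : a = 0
      · rw [ha, hab.1 ha]
      · rw [hcon a ha, hcon b fun h => ha (hab.2 h)]
    rw [hF, Fintype.card_bool] at h3
    omega
  have hw : w ^ 3 = 1 := pow_three hF' hw0
  obtain ⟨y, hy⟩ := hs (pr6 (xs w hw))
  have hx3 : (pr6 (xs w hw) : PSU 6 F 2) ^ 3 = 1 := by
    rw [← map_pow, xs_pow]
    have h3 : xs (w ^ 3) (by rw [← pow_mul, pow_mul', hw, one_pow]) = (1 : SU 6 F 2) := by
      refine Subtype.ext (Subtype.ext ?_)
      show diagonal (xv (w ^ 3)) = (1 : Matrix (Fin 6) (Fin 6) F)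
      rw [hw, ← diagonal_one]
      congr 1
      funext i
      fin_cases i <;> simp [xv]
    rw [h3, map_one]
  set x : E := y ^ 4 with hx
  have hπx : π x = pr6 (xs w hw) := by
    rw [hx, map_pow, hy, pow_succ, hx3, one_mul]
  have hy3 : y ^ 3 ∈ π.ker := by
    rw [MonoidHom.mem_ker, map_pow, hy, hx3]
  have hxc : x ^ 3 = 1 := by
    have h3 := hzz _ hy3
    rw [hx, ← pow_mul]
    calc y ^ (4 * 3) = (y ^ 3 * y ^ 3) * (y ^ 3 * y ^ 3) := by
          rw [← pow_add, ← pow_add]
      _ = 1 := by rw [h3, one_mul]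
  -- `x` and `j g` commute
  have hxj : ∀ g, x * j g = j g * x := by
    intro g
    set ε := x * j g * x⁻¹ * (j g)⁻¹ with hε
    have hεk : ε ∈ π.ker := by
      rw [MonoidHom.mem_ker, hε, map_mul, map_mul, map_mul, map_inv, map_inv, hπx, hjπ, ← map_mul, xs_io, map_mul]
      group
    have hεc := hcc ε hεk
    have hε2 := hzz ε hεk
    have h1 : x * j g * x⁻¹ = ε * j g := by rw [hε]; group
    have h3 : x ^ 3 * j g * (x ^ 3)⁻¹ = ε * ε * ε * j g := by
      calc x ^ 3 * j g * (x ^ 3)⁻¹ = x * (x * (x * j g * x⁻¹) * x⁻¹) * x⁻¹ := by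
            simp only [pow_succ, pow_zero, one_mul, _root_.mul_inv_rev, mul_assoc]
        _ = x * (x * (ε * j g) * x⁻¹) * x⁻¹ := by rw [h1]
        _ = x * (ε * (x * j g * x⁻¹)) * x⁻¹ := by
            congr 2
            rw [← mul_assoc x ε, ← hεc x]; group
        _ = x * (ε * (ε * j g)) * x⁻¹ := by rw [h1]
        _ = ε * ε * (x * j g * x⁻¹) := by
            have h5 : x * (ε * (ε * j g)) * x⁻¹ = x * (ε * ε) * (j g * x⁻¹) := by group
            have h6 : x * (ε * ε) = ε * ε * x := by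
              rw [← mul_assoc, ← hεc x, mul_assoc, ← hεc x, ← mul_assoc]
            rw [h5, h6]; group
        _ = ε * ε * ε * j g := by rw [h1, ← mul_assoc]
    rw [hxc, hε2, one_mul, one_mul, inv_one, mul_one] at h3
    have h4 : ε = 1 := by
      have := mul_right_cancel ((one_mul (j g)).trans h3)
      exact this.symm
    rw [h4, one_mul] at h1
    calc x * j g = x * j g * x⁻¹ * x := by group
      _ = j g * x := by rw [h1]
  -- the map
  let f0 : ZMod 3 →+ Additive E := ZMod.lift 3 ⟨zmultiplesHom (Additive E) (Additive.ofMul x), by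
    rw [zmultiplesHom_apply]
    show ((3 : ℤ) • Additive.ofMul x : Additive E) = 0
    rw [← ofMul_zpow]
    have : x ^ (3 : ℤ) = 1 := by exact_mod_cast hxc
    rw [this]; rfl⟩
  let f1 : Multiplicative (ZMod 3) →* E := AddMonoidHom.toMultiplicativeLeft f0
  have hf1 : ∀ k : ℕ, f1 (Multiplicative.ofAdd (k : ZMod 3)) = x ^ k := by
    intro k
    show Additive.toMul (f0 (k : ZMod 3)) = x ^ k
    have h3 : f0 ((k : ℤ) : ZMod 3) = (zmultiplesHom (Additive E) (Additive.ofMul x)) (k : ℤ) := ZMod.lift_coe 3 _ _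
    rw [Int.cast_natCast] at h3
    rw [h3, zmultiplesHom_apply, natCast_zsmul]
    rfl
  have hf1' : ∀ t : Multiplicative (ZMod 3), ∃ k : ℕ, t = Multiplicative.ofAdd (k : ZMod 3) := by
    intro t
    exact ⟨(Multiplicative.toAdd t).val, by rw [ZMod.natCast_zmod_val]; rfl⟩
  have hf1x : ∀ (t : Multiplicative (ZMod 3)) (e : E), x * e = e * x → f1 t * e = e * f1 t := by
    intro t e he
    obtain ⟨k, rfl⟩ := hf1' t
    rw [hf1]
    exact ((show Commute x e from he).pow_left k).eq
  let φ : Multiplicative (ZMod 3) × π.ker × SU 4 F 2 →* E :=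
    { toFun := fun t => f1 t.1 * ((t.2.1 : E) * j t.2.2)
      map_one' := by simp
      map_mul' := by
        rintro ⟨t, z, g⟩ ⟨t', z', g'⟩
        show f1 (t * t') * (((z * z' : π.ker) : E) * j (g * g')) =
          f1 t * ((z : E) * j g) * (f1 t' * ((z' : E) * j g'))
        rw [map_mul, map_mul, Subgroup.coe_mul]
        have h3 := hf1x t' ((z : E) * j g) (by
          rw [← mul_assoc, ← hcc z z.2 x, mul_assoc, hxj, ← mul_assoc])
        have h4 := hcc z' z'.2 (j g)
        calc f1 t * f1 t' * ((z : E) * z' * (j g * j g')) = f1 t * (f1 t' * ((z : E) * ((z' : E) * j g) * j g')) := by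
              simp only [mul_assoc]
          _ = f1 t * (f1 t' * ((z : E) * (j g * (z' : E)) * j g')) := by rw [h4]
          _ = f1 t * (f1 t' * ((z : E) * j g) * ((z' : E) * j g')) := by simp only [mul_assoc]
          _ = f1 t * ((z : E) * j g * f1 t' * ((z' : E) * j g')) := by rw [h3]
          _ = f1 t * ((z : E) * j g) * (f1 t' * ((z' : E) * j g')) := by simp only [mul_assoc] }
  have hφ : ∀ (k : ℕ) (z : π.ker) (g : SU 4 F 2), φ (Multiplicative.ofAdd (k : ZMod 3), z, g) = x ^ k * ((z : E) * j g) := by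
    intro k z g
    show f1 _ * ((z : E) * j g) = _
    rw [hf1]
  have hφ1 : φ (Multiplicative.ofAdd 1, 1, 1) = x := by
    have h3 := hφ 1 1 1
    rw [Nat.cast_one] at h3
    rw [h3, map_one]
    simp
  have hxne : x ≠ 1 := by
    intro h
    have h3 : pr6 (xs w hw * io 1) = 1 := by rw [map_one, mul_one, ← hπx, h, map_one]
    exact hw1 (inj_aux hF' hw (pr6_eq_one.1 h3)).1
  refine ⟨x, φ, ?_, ?_, ?_, hφ1, ?_⟩
  · exact orderOf_eq_prime hxc hxne
  · rw [injective_iff_map_eq_one]
    rintro ⟨t, z, g⟩ h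
    obtain ⟨k, rfl⟩ := hf1' t
    rw [hφ] at h
    have h3 : pr6 (xs (w ^ k) (by rw [← pow_mul, pow_mul', hw, one_pow]) * io g) = 1 := by
      rw [← xs_pow hw, map_mul, map_pow, ← hπx, ← hjπ, ← map_pow, ← map_mul]
      have h4 : x ^ k * ((z : E) * j g) = z * (x ^ k * j g) := by
        rw [← mul_assoc, ← hcc z z.2 (x ^ k), mul_assoc]
      rw [h4] at h
      have h5 := congrArg π h
      rw [map_mul, map_one, MonoidHom.mem_ker.1 z.2, one_mul] at h5
      exact h5
    obtain ⟨h4, rfl⟩ := inj_aux hF' _ (pr6_eq_one.1 h3)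
    have h5 : (k : ZMod 3) = 0 := by
      rw [ZMod.natCast_eq_zero_iff]
      have h6 : orderOf w = 3 := orderOf_eq_prime hw hw1
      rw [← h6]
      exact orderOf_dvd_of_pow_eq_one h4
    have h6 : x ^ k = 1 := by
      rw [ZMod.natCast_eq_zero_iff] at h5
      obtain ⟨m, rfl⟩ := h5
      rw [pow_mul, hxc, one_pow]
    rw [h6, one_mul, map_one, mul_one] at h
    have h7 : z = 1 := Subtype.ext h
    rw [h5, h7]
    rfl
  · ext e
    rw [Subgroup.mem_centralizer_singleton_iff]
    constructor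
    · rintro ⟨⟨t, z, g⟩, rfl⟩
      obtain ⟨k, rfl⟩ := hf1' t
      rw [hφ]
      have h3 : Commute x (x ^ k * ((z : E) * j g)) :=
        ((Commute.refl x).pow_right k).mul_right (Commute.mul_right (hcc z z.2 x).symm (hxj g))
      first | exact h3.eq | exact h3.eq.symm
    · intro he
      have he' : x * e = e * x := by first | exact he | exact he.symm
      obtain ⟨A, hA⟩ := QuotientGroup.mk'_surjective (Subgroup.center (SU 6 F 2)) (π e)
      have h3 : pr6 ((A * xs w hw) * (xs w hw * A)⁻¹) = 1 := by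
        rw [map_mul, map_inv, map_mul, map_mul, hA, ← hπx, ← map_mul, ← map_mul, he', mul_inv_cancel]
      obtain ⟨c, hc6, hc3, h4⟩ := (mem_center_SU_iff hF' (by norm_num) _).1 (pr6_eq_one.1 h3)
      have h5 : A * xs w hw = suScalar 2 c hc6 hc3 * (xs w hw * A) := by
        rw [← h4, inv_mul_cancel_right]
      have h6 : ∀ i k, mt A i k * xv w k = c * (xv w i * mt A i k) := by
        intro i k
        have h7 := congrArg (fun B : SU 6 F 2 => mt B i k) h5
        have h8 : mt (A * xs w hw) i k = mt A i k * xv w k := by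
          rw [mt_mul, mt_xs, mul_diagonal]
        have h9 : mt (suScalar 2 c hc6 hc3 * (xs w hw * A)) i k = c * (xv w i * mt A i k) := by
          rw [mt_mul, mt_mul, mt_xs]
          show ((diagonal (fun _ => c) * (diagonal (xv w) * mt A) : Matrix (Fin 6) (Fin 6) F)) i k = _
          rw [diagonal_mul, diagonal_mul]
        rw [← h8, ← h9]
        exact h7
      obtain ⟨z, hz, k, g, h7⟩ := cent_dec hF' hw hw1 hc3 h6
      have h8 : π e = π (x ^ k * j g) := by
        rw [map_mul, map_pow, hπx, hjπ, ← hA, h7]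
        show pr6 (z * xs w hw ^ k * io g) = _
        rw [map_mul, map_mul, pr6_eq_one.2 hz, one_mul, map_pow]
      have h9 : e * (x ^ k * j g)⁻¹ ∈ π.ker := by
        rw [MonoidHom.mem_ker, map_mul, map_inv, h8, mul_inv_cancel]
      refine ⟨(Multiplicative.ofAdd (k : ZMod 3), ⟨_, h9⟩, g), ?_⟩
      rw [hφ]
      show x ^ k * (e * (x ^ k * j g)⁻¹ * j g) = e
      have h10 := hcc _ h9 (x ^ k)
      calc x ^ k * (e * (x ^ k * j g)⁻¹ * j g) = x ^ k * (e * (x ^ k * j g)⁻¹) * j g := by rw [← mul_assoc]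
        _ = e * (x ^ k * j g)⁻¹ * x ^ k * j g := by rw [← h10]
        _ = e := by group
  · intro z
    have h3 := hφ 0 z 1
    rw [Nat.cast_zero, pow_zero, one_mul, map_one, mul_one] at h3
    exact h3

end Cfsg.Agent.H242.RIM
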